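import Cfsg.Agent.Lib.Golay.Bsgs

/-!
# Coded elements: listing a chain, and an exact centraliser by two chains with the same base points
-/

set_option autoImplicit false

namespace CfsgLib.HSEndgame

open CfsgLib.Golay CfsgLib.Golay.Bsgs

variable {G : Type*} [Group G] {α : Type*} [MulAction G α] (O : Ops G α)

/-- All products of representatives. -/
def elems : List Lvl → List ℕ
  | [] => [O.one]
  | l :: ls => l.reps.flatMap fun r => (elems ls).map (O.mul r)

/-- Some listed point is moved by the power of a code. -/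
def moved (pts : List ℕ) (k q : ℕ) : Bool :=
  pts.any fun p => O.ptOk p && !((List.replicate k q).foldr (fun c r => O.img c r) p == p)

/-- Two codes commute on the listed points. -/
def commOn (pts : List ℕ) (a b : ℕ) : Bool :=
  pts.all fun p => !O.ptOk p || O.img a (O.img b p) == O.img b (O.img a p)

/-- Every level's image is met by the centraliser or has no commuting element below it. -/
def subCheck (x : ℕ) (pts : List ℕ) : List ℕ → List Lvl → List Lvl → Bool
  | _, [], _ => true
  | _, _ :: _, [] => false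
  | bs, l :: ls, u :: us =>
    decide (u.base = l.base) &&
    (l.reps.all fun t =>
      (u.reps.map fun r => O.img r l.base).contains (O.img t l.base) ||
        !((bs ++ [l.base]).all fun bi => (bs ++ [l.base]).all fun bj =>
            !(O.img x bi == bj) || O.img t bj == O.img x (O.img t bi)) ||
          centCheck O x [] pts (bs ++ [l.base]) t ls) &&
    subCheck x pts (bs ++ [l.base]) ls us

variable {O}

theorem mem_elems [Finite G] : ∀ {fixed : List ℕ} {ls : List Lvl}, (∀ f ∈ fixed, O.ptOk f = true) →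
    check O fixed ls = true → ∀ g ∈ grp O ls, ∃ c ∈ elems O ls, O.ok c = true ∧ O.val c = g
  | _, [], _, _, g, hg => by
    rw [show grp O [] = ⊥ by simp [grp, allGens], Subgroup.mem_bot] at hg
    exact ⟨O.one, by simp [elems], O.ok_one, by rw [O.val_one, hg]⟩
  | fixed, l :: ls, hfix, hc, g, hg => by
    obtain ⟨-, -, -, -, hdec⟩ := spec O hfix hc
    obtain ⟨r, hr, h, hh, rfl⟩ := hdec l ls rfl g hg
    simp only [check, Bool.and_eq_true, decide_eq_true_eq, List.all_eq_true] at hc
    obtain ⟨⟨⟨⟨⟨⟨⟨⟨hb, -⟩, hreps⟩, -⟩, -⟩, -⟩, -⟩, -⟩, hrec⟩ := hc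
    have hfix' : ∀ f ∈ fixed ++ [l.base], O.ptOk f = true := by
      intro f hf
      rcases List.mem_append.1 hf with hf | hf
      · exact hfix f hf
      · rw [List.mem_singleton.1 hf]; exact hb
    obtain ⟨c, hc', hok, rfl⟩ := mem_elems hfix' hrec h hh
    exact ⟨O.mul r c, List.mem_flatMap.2 ⟨r, hr, List.mem_map.2 ⟨c, hc', rfl⟩⟩,
      O.ok_mul _ _ (hreps r hr) hok, O.val_mul _ _ (hreps r hr) hok⟩

theorem foldr_pow {q : ℕ} (hq : O.ok q = true) : ∀ (k : ℕ) {p : ℕ}, O.ptOk p = true →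
    O.val q ^ k • O.pt p = O.pt ((List.replicate k q).foldr (fun c r => O.img c r) p) ∧
      O.ptOk ((List.replicate k q).foldr (fun c r => O.img c r) p) = true
  | 0, p, hp => by simp [hp]
  | k + 1, p, hp => by
    obtain ⟨h1, h2⟩ := foldr_pow hq k hp
    obtain ⟨h3, h4⟩ := O.pt_img q _ hq h2
    simp only [List.replicate_succ, List.foldr_cons, pow_succ', mul_smul, h1, h3]
    exact ⟨trivial, h4⟩

theorem moved_eq_false {pts : List ℕ} {k q : ℕ} (hq : O.ok q = true) (h : O.val q ^ k = 1) :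
    moved O pts k q = false := by
  simp only [moved, List.any_eq_false, Bool.and_eq_true, Bool.not_eq_true', beq_eq_false_iff_ne, not_and, not_not]
  intro p _ hp
  obtain ⟨h1, h2⟩ := foldr_pow hq k hp
  rw [h, one_smul] at h1
  exact (O.pt_inj _ _ hp h2 h1).symm

theorem commOn_eq_true {pts : List ℕ} {a b : ℕ} (ha : O.ok a = true) (hb : O.ok b = true)
    (h : O.val a * O.val b = O.val b * O.val a) : commOn O pts a b = true := by
  simp only [commOn, List.all_eq_true, Bool.or_eq_true, Bool.not_eq_true', beq_iff_eq]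
  intro p _
  rcases hp : O.ptOk p with _ | _
  · exact .inl rfl
  right
  obtain ⟨b1, b2⟩ := O.pt_img b p hb hp
  obtain ⟨a1, a2⟩ := O.pt_img a p ha hp
  obtain ⟨c1, c2⟩ := O.pt_img a _ ha b2
  obtain ⟨d1, d2⟩ := O.pt_img b _ hb a2
  refine O.pt_inj _ _ c2 d2 ?_
  rw [← c1, ← d1, ← b1, ← a1, ← mul_smul, ← mul_smul, h]

theorem tail_prop [Finite G] {K : Subgroup G} {bs : List ℕ} {l : Lvl} {ls : List Lvl}
    (hbs : ∀ f ∈ bs, O.ptOk f = true) (hc : check O bs (l :: ls) = true)
    (hK : ∀ g ∈ K, (∀ f ∈ bs, g • O.pt f = O.pt f) → g ∈ grp O (l :: ls)) :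
    ∀ g ∈ K, (∀ f ∈ bs ++ [l.base], g • O.pt f = O.pt f) → g ∈ grp O ls := by
  intro g hg hfix
  obtain ⟨-, -, -, -, hdec⟩ := spec O hbs hc
  obtain ⟨r, hr, h, hh, rfl⟩ := hdec l ls rfl g (hK g hg fun f hf => hfix f (by simp [hf]))
  simp only [check, Bool.and_eq_true, decide_eq_true_eq, List.all_eq_true] at hc
  obtain ⟨⟨⟨⟨⟨⟨⟨⟨hb, hhead⟩, hreps⟩, hnd⟩, -⟩, -⟩, -⟩, -⟩, hrec⟩ := hc
  have hbs' : ∀ f ∈ bs ++ [l.base], O.ptOk f = true := by
    intro f hf
    rcases List.mem_append.1 hf with hf | hf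
    · exact hbs f hf
    · rw [List.mem_singleton.1 hf]; exact hb
  have hF := (spec O hbs' hrec).1
  have e := hfix l.base (by simp)
  rw [mul_smul, hF h hh l.base (by simp)] at e
  obtain ⟨h1, h2⟩ := O.pt_img r l.base (hreps r hr) hb
  rw [h1] at e
  have hone : O.one ∈ l.reps := List.mem_of_mem_head? hhead
  obtain ⟨o1, o2⟩ := O.pt_img O.one l.base O.ok_one hb
  rw [O.val_one, one_smul] at o1
  have hr1 : r = O.one := List.inj_on_of_nodup_map hnd hr hone
    ((O.pt_inj _ _ h2 hb e).trans (O.pt_inj _ _ hb o2 o1))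
  rwa [hr1, O.val_one, one_mul]

theorem subCheck_sound [Finite G] {x : ℕ} (hx : O.ok x = true) {pts : List ℕ} {K U : Subgroup G}
    (hUK : U ≤ K) (hU : ∀ g ∈ U, g * O.val x = O.val x * g) :
    ∀ {bs : List ℕ} {ls us : List Lvl}, (∀ f ∈ bs, O.ptOk f = true) → check O bs ls = true →
      check O bs us = true → subCheck O x pts bs ls us = true → grp O us ≤ U →
      (∀ g ∈ K, (∀ f ∈ bs, g • O.pt f = O.pt f) → g ∈ grp O ls) →
      ∀ g ∈ K, g * O.val x = O.val x * g → (∀ f ∈ bs, g • O.pt f = O.pt f) → g ∈ U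
  | bs, [], _, _, _, _, _, _, hK, g, hg, _, hfix => by
    have h := hK g hg hfix
    rw [show grp O [] = ⊥ by simp [grp, allGens], Subgroup.mem_bot] at h
    exact h ▸ one_mem U
  | bs, l :: ls, [], _, _, _, hs, _, _, _, _, _, _ => by simp [subCheck] at hs
  | bs, l :: ls, u :: us, hbs, hc, hcu, hs, hle, hK, g, hg, hcomm, hfix => by
    simp only [subCheck, Bool.and_eq_true, decide_eq_true_eq, List.all_eq_true] at hs
    obtain ⟨⟨hbase, hall⟩, hsrec⟩ := hs
    obtain ⟨-, -, -, -, hdec⟩ := spec O hbs hc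
    obtain ⟨t, ht, h, hh, e⟩ := hdec l ls rfl g (hK g hg hfix)
    have htail := tail_prop hbs hc hK
    obtain ⟨hFu, hoku, hprodu, -, -⟩ := spec O hbs hcu
    have hc' := hc
    simp only [check, Bool.and_eq_true, decide_eq_true_eq, List.all_eq_true] at hc' hcu
    obtain ⟨⟨⟨⟨⟨⟨⟨⟨hb, -⟩, hreps⟩, -⟩, -⟩, -⟩, -⟩, -⟩, hrec⟩ := hc'
    obtain ⟨⟨⟨⟨⟨⟨⟨⟨-, -⟩, hureps⟩, -⟩, -⟩, -⟩, -⟩, -⟩, hurec⟩ := hcu
    rw [hbase] at hurec
    have hbs' : ∀ f ∈ bs ++ [l.base], O.ptOk f = true := by
      intro f hf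
      rcases List.mem_append.1 hf with hf | hf
      · exact hbs f hf
      · rw [List.mem_singleton.1 hf]; exact hb
    have hF := (spec O hbs' hrec).1
    have hule : grp O us ≤ U := le_trans ((Subgroup.closure_le _).2 fun y hy => by
      obtain ⟨r, hr, rfl⟩ := hy
      exact Subgroup.subset_closure ⟨r, List.mem_append.2 (Or.inr hr), rfl⟩) hle
    have hgbase : g • O.pt l.base = O.pt (O.img t l.base) := by
      rw [e, mul_smul, hF h hh l.base (by simp), (O.pt_img t l.base (hreps t ht) hb).1]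
    have hrest := subCheck_sound hx hUK hU hbs' hrec hurec hsrec hule htail
    have hsub := hall t ht
    rw [Bool.or_eq_true, Bool.or_eq_true] at hsub
    rcases hsub with (hm | hbad) | hgood
    · rw [List.contains_iff_mem, List.mem_map] at hm
      obtain ⟨r, hr, hre⟩ := hm
      have hrU : O.val r ∈ grp O (u :: us) := by
        obtain ⟨i, hi, rfl⟩ := List.getElem_of_mem hr
        have h2 := (hprodu [i]).2
        simp only [prodReps] at h2
        rw [List.getD_eq_getElem _ _ hi, O.val_mul _ _ (hureps _ (List.getElem_mem hi)) O.ok_one, O.val_one,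
          mul_one] at h2
        exact h2
      have hfix' : ∀ f ∈ bs ++ [l.base], ((O.val r)⁻¹ * g) • O.pt f = O.pt f := by
        intro f hf
        rw [mul_smul, inv_smul_eq_iff]
        rcases List.mem_append.1 hf with hf | hf
        · rw [hfix f hf, hFu _ hrU f hf]
        · rw [List.mem_singleton.1 hf, hgbase, (O.pt_img r l.base (hureps r hr) hb).1, hre]
      have h1 := hrest _ (mul_mem (inv_mem (hUK (hle hrU))) hg)
        ((Commute.inv_left (hU _ (hle hrU))).mul_left hcomm).eq hfix'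
      simpa using mul_mem (hle hrU) h1
    · exfalso
      rw [Bool.not_eq_true', List.all_eq_false] at hbad
      obtain ⟨bi, hbi, hbad⟩ := hbad
      simp only [List.all_eq_true, Bool.or_eq_true, Bool.not_eq_true', beq_eq_false_iff_ne, beq_iff_eq,
        not_forall, not_or, not_not] at hbad
      obtain ⟨bj, hbj, hij, hne⟩ := hbad
      have hact : ∀ f ∈ bs ++ [l.base], g • O.pt f = O.pt (O.img t f) := fun f hf => by
        rw [e, mul_smul, hF h hh f hf, (O.pt_img t f (hreps t ht) (hbs' f hf)).1]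
      refine hne (O.pt_inj _ _ (O.pt_img _ bj (hreps t ht) (hbs' bj hbj)).2
        (O.pt_img x _ hx (O.pt_img _ bi (hreps t ht) (hbs' bi hbi)).2).2 ?_)
      rw [← hact bj hbj, ← hij, ← (O.pt_img x bi hx (hbs' bi hbi)).1, ← mul_smul, hcomm, mul_smul,
        hact bi hbi, (O.pt_img x _ hx (O.pt_img _ bi (hreps t ht) (hbs' bi hbi)).2).1]
    · obtain ⟨r, hr, -⟩ := cent_sound O hx hbs' (hreps t ht) hrec hgood g hcomm
        (by rw [e, inv_mul_cancel_left]; exact hh)
      simp at hr

end CfsgLib.HSEndgame
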