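import Cfsg.Agent.Lib.HSEndgame.Data
import Cfsg.Agent.Lib.HSEndgame.Coded
import Cfsg.Agent.Lib.Tails.HSCover

/-!
# Kernel checks on the involutions of HS and the centraliser of the fixed point free class
-/

set_option autoImplicit false
set_option maxRecDepth 100000
set_option maxHeartbeats 2000000
set_option Elab.async false

namespace CfsgLib.HSEndgame

open CfsgLib.Golay

/-- The coded permutations. -/
noncomputable abbrev O : Bsgs.Ops (Equiv.Perm (Fin 100)) (Fin 100) := CfsgLib.Schur.Tails.HS.ops

/-- The points. -/
def pts : List ℕ := [0, 72, 24, 78, 1, 28]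

/-- The element of the group with given indices. -/
noncomputable def el (is : List ℕ) : ℕ := Bsgs.prodReps O hLevels is

theorem h_ok : Bsgs.check O [] hLevels = true ∧
    (hLevels.map fun l => l.reps.length).prod = 44352000 ∧
    (List.range (Bsgs.allGens hLevels).length).all (fun k =>
      Bsgs.prodReps O CfsgLib.TailsData.hsLevels (hIdx.getD k []) == (Bsgs.allGens hLevels).getD k 0) = true := by
  refine ⟨?_, ?_, ?_⟩ <;> decide +kernel

theorem ab_ok : el idxA = codeA ∧ el idxB = codeB ∧ moved O pts 2 codeA = false ∧ moved O pts 2 codeB = false ∧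
    moved O pts 1 codeA = true ∧ moved O pts 1 codeB = true ∧
    O.mul codeA codeA = O.one ∧ O.mul codeB codeB = O.one := by
  refine ⟨?_, ?_, ?_, ?_, ?_, ?_, ?_, ?_⟩ <;> decide +kernel

theorem u_ok : Bsgs.check O [] uLevels = true ∧
    (List.range (Bsgs.allGens uLevels).length).all (fun k =>
      el (uIdx.getD k []) == (Bsgs.allGens uLevels).getD k 0 &&
        O.mul codeB ((Bsgs.allGens uLevels).getD k 0) == O.mul ((Bsgs.allGens uLevels).getD k 0) codeB) = true ∧
    (uLevels.map fun l => l.reps.length).prod = 2880 := by
  refine ⟨?_, ?_, ?_⟩ <;> decide +kernel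

theorem sub_ok : subCheck O codeB pts [] hLevels uLevels = true := by decide +kernel

theorem p_ok : Bsgs.check O [] pLevels = true ∧
    (List.range (Bsgs.allGens pLevels).length).all (fun k =>
      el (pIdx.getD k []) == (Bsgs.allGens pLevels).getD k 0) = true ∧
    (pLevels.map fun l => l.reps.length).prod = 512 := by
  refine ⟨?_, ?_, ?_⟩ <;> decide +kernel

theorem pwit_ok : pWit.all (fun w =>
    O.mul (el w.2.2) w.1 == O.mul (if w.2.1 then codeA else codeB) (el w.2.2)) = true := by decide +kernel

theorem pelems_ok : (elems O pLevels).all (fun c =>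
    moved O pts 2 c || !moved O pts 1 c || (pWit.map fun w => w.1).contains c) = true := by decide +kernel

theorem s_ok : decide (sList.length = 75) && decide (sWit.length = 75) && sList.all O.ok &&
    decide (sList.map fun c => pts.map fun p => O.img c p).Nodup &&
    (List.range 75).all (fun k =>
      O.mul codeB (sList.getD k 0) == O.mul (sList.getD k 0) codeB &&
        O.mul (el (sWit.getD k [])) (sList.getD k 0) == O.mul codeA (el (sWit.getD k []))) = true := by
  decide +kernel

/-- The facts about one element of the centraliser. -/
noncomputable def factB (g : ℕ) : Bool :=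
  (moved O pts 4 g || !moved O pts 2 g || sList.contains (O.mul g g)) &&
  (moved O pts 2 g || !moved O pts 1 g || g == codeB || sList.contains g || sList.contains (O.mul g codeB) ||
    tList.contains g) &&
  (moved O pts 15 g || !moved O pts 3 g || !moved O pts 5 g)

theorem t_ok : tList.all O.ok &&
    (tList.all fun x => tList.all fun y =>
      !commOn O pts x y || y == x || y == O.mul x codeB || sList.contains (O.mul x y) ||
        sList.contains (O.mul (O.mul x y) codeB)) = true := by decide +kernel

end CfsgLib.HSEndgame
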