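import Cfsg.Agent.Lib.HSEndgame.ChecksU
import Mathlib.GroupTheory.Sylow

/-!
# The two classes of involutions of HS and the subgroups avoiding the first class
-/

set_option autoImplicit false
set_option linter.unusedSectionVars false
set_option linter.style.haveILetI false
set_option linter.unusedVariables false
set_option maxRecDepth 100000

namespace CfsgLib.HSEndgame

open CfsgLib.Golay Subgroup

/-- The involution with twenty fixed points. -/
noncomputable def aP : Equiv.Perm (Fin 100) := O.val codeA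

/-- The involution without fixed points. -/
noncomputable def bP : Equiv.Perm (Fin 100) := O.val codeB

theorem h_check : Bsgs.check O [] hLevels = true := h_ok.1

theorem grp_std : Bsgs.grp O CfsgLib.TailsData.hsLevels = HS.hsGroup := by
  open CfsgLib.Schur.Tails.HS in
  obtain ⟨hc, hprod, hslp, hall, -⟩ := chain_checks
  simp only [List.all_eq_true, List.contains_iff_mem] at hall
  refine Subgroup.eq_of_le_of_card_ge ((closure_le _).2 ?_) ?_
  · rintro _ ⟨r, hr', rfl⟩
    refine (Bsgs.slp_sound O HS.hsGroup hslp (fun c hcb => ?_) r (hall r hr')).2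
    obtain ⟨i, hi, rfl⟩ := List.getElem_of_mem hcb
    have hi2 : i < 2 := CfsgLib.Schur.Tails.HS.base_ok.2 ▸ hi
    have e : CfsgLib.Schur.Tails.HS.baseC i = CfsgLib.TailsData.hsBase[i] := List.getD_eq_getElem _ _ hi
    exact ⟨e ▸ CfsgLib.Schur.Tails.HS.baseC_ok hi2, e ▸ CfsgLib.Schur.Tails.HS.base_mem hi2⟩
  · rw [HS.card_hsGroup, ← hprod, ← (Bsgs.spec O (fun f hf => absurd hf List.not_mem_nil) hc).2.2.2.1]

theorem std_prod (is : List ℕ) : O.val (Bsgs.prodReps O CfsgLib.TailsData.hsLevels is) ∈ HS.hsGroup :=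
  grp_std ▸ ((Bsgs.spec O (fun f hf => absurd hf List.not_mem_nil)
    CfsgLib.Schur.Tails.HS.chain_checks.1).2.2.1 is).2

theorem grp_h : Bsgs.grp O hLevels = HS.hsGroup := by
  obtain ⟨hc, hprod, hgens⟩ := h_ok
  simp only [List.all_eq_true, List.mem_range, beq_iff_eq] at hgens
  refine Subgroup.eq_of_le_of_card_ge ((closure_le _).2 ?_) ?_
  · rintro _ ⟨r, hr, rfl⟩
    obtain ⟨k, hk, rfl⟩ := List.getElem_of_mem hr
    rw [← List.getD_eq_getElem _ 0 hk, ← hgens k hk]
    exact std_prod _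
  · rw [HS.card_hsGroup, ← hprod, (Bsgs.spec O (fun f hf => absurd hf List.not_mem_nil) hc).2.2.2.1]

theorem el_spec (is : List ℕ) : O.ok (el is) = true ∧ O.val (el is) ∈ HS.hsGroup := by
  have h := (Bsgs.spec O (fun f hf => absurd hf List.not_mem_nil) h_check).2.2.1 is
  exact ⟨h.1, grp_h ▸ h.2⟩

theorem codeA_ok : O.ok codeA = true ∧ aP ∈ HS.hsGroup := by
  unfold aP
  rw [← ab_ok.1]
  exact el_spec _

theorem codeB_ok : O.ok codeB = true ∧ bP ∈ HS.hsGroup := by
  unfold bP
  rw [← ab_ok.2.1]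
  exact el_spec _

/-- An element fixing all base points is trivial. -/
theorem eq_one_of_not_moved {q : ℕ} {k : ℕ} (hq : O.ok q = true) (hK : O.val q ∈ HS.hsGroup)
    (h : moved O pts k q = false) : O.val q ^ k = 1 := by
  have hpts : ∀ p ∈ pts, O.ptOk p = true := by decide
  have hfix : ∀ p ∈ pts, O.val q ^ k • O.pt p = O.pt p := fun p hp => by
    simp only [moved, List.any_eq_false, Bool.and_eq_true, Bool.not_eq_true', beq_eq_false_iff_ne, not_and,
      not_not] at h
    rw [(foldr_pow hq k (hpts p hp)).1, h p hp (hpts p hp)]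
  have gen : ∀ (ls : List Bsgs.Lvl) (bs : List ℕ), (∀ f ∈ bs, O.ptOk f = true) → Bsgs.check O bs ls = true →
      (∀ g ∈ HS.hsGroup, (∀ f ∈ bs, g • O.pt f = O.pt f) → g ∈ Bsgs.grp O ls) →
      ∀ g ∈ HS.hsGroup, (∀ f ∈ bs ++ ls.map (fun l => l.base), g • O.pt f = O.pt f) → g = 1 := by
    intro ls
    induction ls with
    | nil =>
      intro bs _ _ hK' g hg hf
      have := hK' g hg fun f hf' => hf f (by simp [hf'])
      rwa [show Bsgs.grp O [] = ⊥ by simp [Bsgs.grp, Bsgs.allGens], mem_bot] at this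
    | cons l ls ih =>
      intro bs hbs hc hK' g hg hf
      have htail := tail_prop hbs hc hK'
      simp only [Bsgs.check, Bool.and_eq_true] at hc
      refine ih (bs ++ [l.base]) (fun f hf' => ?_) hc.2 htail g hg fun f hf' => hf f (by simpa using hf')
      rcases List.mem_append.1 hf' with h' | h'
      · exact hbs f h'
      · rw [List.mem_singleton.1 h']; exact hc.1.1.1.1.1.1.1.1
  refine gen hLevels [] (fun f hf => absurd hf List.not_mem_nil) h_check (fun g hg _ => grp_h ▸ hg) _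
    (pow_mem hK k) fun f hf => hfix f ?_
  rw [List.nil_append] at hf
  have hb : hLevels.map (fun l => l.base) = pts := by decide +kernel
  rwa [hb] at hf

theorem aP_sq : aP * aP = 1 := by
  unfold aP
  rw [← O.val_mul _ _ codeA_ok.1 codeA_ok.1, ab_ok.2.2.2.2.2.2.1, O.val_one]

theorem bP_sq : bP * bP = 1 := by
  unfold bP
  rw [← O.val_mul _ _ codeB_ok.1 codeB_ok.1, ab_ok.2.2.2.2.2.2.2, O.val_one]

theorem aP_ne : aP ≠ 1 := fun h => by
  have := moved_eq_false (pts := pts) (k := 1) codeA_ok.1 (by rw [pow_one]; exact h)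
  rw [ab_ok.2.2.2.2.1] at this
  exact absurd this (by decide)

theorem bP_ne : bP ≠ 1 := fun h => by
  have := moved_eq_false (pts := pts) (k := 1) codeB_ok.1 (by rw [pow_one]; exact h)
  rw [ab_ok.2.2.2.2.2.1] at this
  exact absurd this (by decide)

theorem p_spec : Bsgs.grp O pLevels ≤ HS.hsGroup := by
  obtain ⟨hc, hgens, -⟩ := p_ok
  simp only [List.all_eq_true, List.mem_range, beq_iff_eq] at hgens
  refine (closure_le _).2 ?_
  rintro _ ⟨r, hr, rfl⟩
  obtain ⟨k, hk, rfl⟩ := List.getElem_of_mem hr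
  rw [← List.getD_eq_getElem _ 0 hk, ← hgens k hk]
  exact (el_spec _).2

/-- Every involution is conjugate to one of the two. -/
theorem invol_cases {x : ↥HS.hsGroup} (hx2 : orderOf x = 2) :
    ∃ g : ↥HS.hsGroup, g * x * g⁻¹ = ⟨aP, codeA_ok.2⟩ ∨ g * x * g⁻¹ = ⟨bP, codeB_ok.2⟩ := by
  haveI : Fact (Nat.Prime 2) := ⟨Nat.prime_two⟩
  set P : Subgroup ↥HS.hsGroup := (Bsgs.grp O pLevels).subgroupOf HS.hsGroup with hP
  obtain ⟨hc, -, hprod⟩ := p_ok
  have hP' : Nat.card ↥P = 2 ^ (Nat.card ↥HS.hsGroup).factorization 2 := by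
    rw [hP, Nat.card_congr (subgroupOfEquivOfLe p_spec).toEquiv,
      (Bsgs.spec O (fun f hf => absurd hf List.not_mem_nil) hc).2.2.2.1, hprod, HS.card_hsGroup,
      show (44352000 : ℕ) = 2 ^ 9 * 86625 by norm_num, Nat.factorization_mul (by norm_num) (by norm_num),
      Finsupp.add_apply, Nat.prime_two.factorization_pow, Finsupp.single_eq_same,
      Nat.factorization_eq_zero_of_not_dvd (by norm_num), Nat.add_zero]
    norm_num
  obtain ⟨Q, hQ⟩ := (IsPGroup.of_card (p := 2) (n := 1) (by rw [Nat.card_zpowers, hx2, pow_one]) :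
    IsPGroup 2 (zpowers x)).exists_le_sylow
  obtain ⟨h, hh⟩ := MulAction.exists_smul_eq ↥HS.hsGroup (Sylow.ofCard P hP') Q
  have h1 : x ∈ (h • Sylow.ofCard P hP' : Sylow 2 ↥HS.hsGroup).toSubgroup := hh ▸ hQ (mem_zpowers x)
  rw [Sylow.coe_subgroup_smul, Subgroup.pointwise_smul_def, Sylow.coe_ofCard] at h1
  obtain ⟨j, hj, hjx⟩ := h1
  have hjx' : h * j * h⁻¹ = x := hjx
  have hj2 : orderOf j = 2 := by rw [← hx2, ← hjx', ← MulAut.conj_apply, MulEquiv.orderOf_eq]
  obtain ⟨c, hcm, hok, hval⟩ := mem_elems (fun f hf => absurd hf List.not_mem_nil) hc (j : Equiv.Perm (Fin 100))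
    (mem_subgroupOf.1 hj)
  have hck := List.all_eq_true.1 pelems_ok c hcm
  simp only [Bool.or_eq_true, Bool.not_eq_true', List.contains_iff_mem, List.mem_map] at hck
  rcases hck with (h2 | h2) | ⟨w, hw, hwc⟩
  · exfalso
    rw [moved_eq_false hok (k := 2) (by rw [hval, ← coe_pow, ← hj2, pow_orderOf_eq_one, coe_one])] at h2
    exact Bool.false_ne_true h2
  · exfalso
    have h3 := eq_one_of_not_moved hok (hval ▸ j.2) h2
    rw [pow_one, hval, OneMemClass.coe_eq_one] at h3
    rw [h3, orderOf_one] at hj2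
    omega
  · have hwk := List.all_eq_true.1 pwit_ok w hw
    rw [beq_iff_eq, hwc] at hwk
    obtain ⟨he, hg⟩ := el_spec w.2.2
    have hcode : O.ok (if w.2.1 then codeA else codeB) = true := by
      split <;> simp [codeA_ok.1, codeB_ok.1]
    have e := congrArg O.val hwk
    rw [O.val_mul _ _ he hok, O.val_mul _ _ hcode he, hval] at e
    refine ⟨⟨_, hg⟩ * h⁻¹, ?_⟩
    have hx' : (⟨_, hg⟩ : ↥HS.hsGroup) * h⁻¹ * x * (⟨_, hg⟩ * h⁻¹)⁻¹ = ⟨_, hg⟩ * j * (⟨_, hg⟩ : ↥HS.hsGroup)⁻¹ := by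
      rw [← hjx']; group
    rw [hx']
    rcases hb : w.2.1 with _ | _ <;> simp only [hb, Bool.false_eq_true, if_false, if_true] at e
    · exact .inr (Subtype.ext (mul_inv_eq_iff_eq_mul.2 e))
    · exact .inl (Subtype.ext (mul_inv_eq_iff_eq_mul.2 e))

/-- The centraliser of the second involution. -/
noncomputable def CB : Subgroup (Equiv.Perm (Fin 100)) := HS.hsGroup ⊓ centralizer ({bP} : Set _)

theorem u_spec : Bsgs.grp O uLevels = CB := by
  obtain ⟨hc, hgens, hprod⟩ := u_ok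
  simp only [List.all_eq_true, List.mem_range, Bool.and_eq_true, beq_iff_eq] at hgens
  have hle : Bsgs.grp O uLevels ≤ CB := by
    refine (closure_le _).2 ?_
    rintro _ ⟨r, hr, rfl⟩
    obtain ⟨k, hk, rfl⟩ := List.getElem_of_mem hr
    obtain ⟨h1, h2⟩ := hgens k hk
    rw [List.getD_eq_getElem _ 0 hk] at h1 h2
    have hok := (Bsgs.spec O (fun f hf => absurd hf List.not_mem_nil) hc).2.1 _ hr
    refine mem_inf.2 ⟨h1 ▸ (el_spec _).2, mem_centralizer_singleton_iff.2 ?_⟩
    have e := congrArg O.val h2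
    rw [O.val_mul _ _ codeB_ok.1 hok, O.val_mul _ _ hok codeB_ok.1] at e
    exact e.symm
  refine le_antisymm hle fun g hg => subCheck_sound (pts := pts) codeB_ok.1 (hle.trans inf_le_left)
    (fun u hu => mem_centralizer_singleton_iff.1 (mem_inf.1 (hle hu)).2) (fun f hf => absurd hf List.not_mem_nil)
    h_check hc sub_ok le_rfl (fun u hu _ => grp_h ▸ hu) g (mem_inf.1 hg).1
    (mem_centralizer_singleton_iff.1 (mem_inf.1 hg).2) fun f hf => absurd hf List.not_mem_nil

theorem card_CB : Nat.card ↥CB = 2880 := by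
  rw [← u_spec, (Bsgs.spec O (fun f hf => absurd hf List.not_mem_nil) u_ok.1).2.2.2.1, u_ok.2.2]

/-- The listed involutions of the first class commuting with the second involution. -/
noncomputable def SA : Set (Equiv.Perm (Fin 100)) := {x | ∃ c ∈ sList, O.val c = x}

theorem s_spec {c : ℕ} (hc : c ∈ sList) : O.ok c = true ∧ O.val c ∈ CB ∧
    ∃ g ∈ HS.hsGroup, g * O.val c * g⁻¹ = aP := by
  have h := s_ok
  simp only [Bool.and_eq_true, List.all_eq_true, List.mem_range, decide_eq_true_eq, beq_iff_eq] at h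
  obtain ⟨⟨⟨⟨hlen, -⟩, hok⟩, -⟩, hall⟩ := h
  obtain ⟨k, hk, rfl⟩ := List.getElem_of_mem hc
  obtain ⟨h1, h2⟩ := hall k (hlen ▸ hk)
  rw [List.getD_eq_getElem _ 0 hk] at h1 h2
  have hck := hok _ hc
  obtain ⟨he, hg⟩ := el_spec (sWit.getD k [])
  have e1 := congrArg O.val h1
  have e2 := congrArg O.val h2
  rw [O.val_mul _ _ codeB_ok.1 hck, O.val_mul _ _ hck codeB_ok.1] at e1
  rw [O.val_mul _ _ he hck, O.val_mul _ _ codeA_ok.1 he] at e2
  refine ⟨hck, mem_inf.2 ⟨?_, mem_centralizer_singleton_iff.2 e1.symm⟩, _, hg, mul_inv_eq_iff_eq_mul.2 e2⟩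
  rw [eq_inv_mul_iff_mul_eq.2 e2]
  exact mul_mem (inv_mem hg) (mul_mem codeA_ok.2 hg)

theorem card_SA : 75 ≤ SA.ncard := by
  classical
  have h := s_ok
  simp only [Bool.and_eq_true, decide_eq_true_eq, List.all_eq_true] at h
  obtain ⟨⟨⟨⟨hlen, -⟩, hok⟩, hnd⟩, -⟩ := h
  have hpts : ∀ p ∈ pts, O.ptOk p = true := by decide
  have hinj : ∀ c ∈ sList, ∀ d ∈ sList, O.val c = O.val d → c = d := fun c hc d hd e =>
    List.inj_on_of_nodup_map hnd hc hd (List.map_congr_left fun p hp => by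
      obtain ⟨c1, c2⟩ := O.pt_img c p (hok c hc) (hpts p hp)
      obtain ⟨d1, d2⟩ := O.pt_img d p (hok d hd) (hpts p hp)
      exact O.pt_inj _ _ c2 d2 (c1.symm.trans (by rw [e]; exact d1)))
  have hset : SA = ↑(sList.map O.val).toFinset := by
    ext x; simp [SA]
  rw [hset, Set.ncard_coe_finset, List.toFinset_card_of_nodup (List.Nodup.map_on hinj (List.Nodup.of_map _ hnd)),
    List.length_map, hlen]

theorem cube_five : ∀ a : ZMod 5, 1 = a ^ 3 → 1 = a := by decide +kernel

/-- A subgroup of the centraliser avoiding the first class is small. -/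
theorem small {D : Subgroup (Equiv.Perm (Fin 100))} (hD : D ≤ CB) (hb : bP ∈ D)
    (hav : ∀ x ∈ D, ∀ g ∈ HS.hsGroup, g * x * g⁻¹ ≠ aP) : Nat.card ↥D < 75 := by
  have hnS : ∀ c ∈ sList, O.val c ∉ D := fun c hc h => by
    obtain ⟨-, -, g, hg, e⟩ := s_spec hc
    exact hav _ h g hg e
  have code : ∀ x ∈ D, ∃ c, O.ok c = true ∧ O.val c = x ∧ factB c = true := fun x hx => by
    obtain ⟨c, hc, hok, hv⟩ := mem_elems (fun f hf => absurd hf List.not_mem_nil) u_ok.1 x
      (u_spec ▸ hD hx)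
    exact ⟨c, hok, hv, List.all_eq_true.1 uelems_ok c hc⟩
  have hhs : ∀ x ∈ D, x ∈ HS.hsGroup := fun x hx => (mem_inf.1 (hD hx)).1
  have hfour : ∀ x ∈ D, x ^ 4 = 1 → x ^ 2 = 1 := by
    intro x hx h4
    obtain ⟨c, hok, rfl, hf⟩ := code x hx
    simp only [factB, Bool.and_eq_true, Bool.or_eq_true, Bool.not_eq_true', List.contains_iff_mem] at hf
    rcases hf.1.1 with (h | h) | h
    · rw [moved_eq_false hok (k := 4) h4] at h
      exact absurd h Bool.false_ne_true
    · exact eq_one_of_not_moved hok (hhs _ hx) h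
    · exact absurd (by rw [O.val_mul _ _ hok hok]; exact mul_mem hx hx) (hnS _ h)
  have htwo : ∀ x ∈ D, x * x = 1 → x ≠ 1 → x ≠ bP → ∃ c ∈ tList, O.val c = x := by
    intro x hx h2 h1 hxb
    obtain ⟨c, hok, rfl, hf⟩ := code x hx
    simp only [factB, Bool.and_eq_true, Bool.or_eq_true, Bool.not_eq_true', List.contains_iff_mem,
      beq_iff_eq] at hf
    rcases hf.1.2 with ((((h | h) | h) | h) | h) | h
    · rw [moved_eq_false hok (k := 2) (by rw [pow_two]; exact h2)] at h
      exact absurd h Bool.false_ne_true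
    · exact absurd (by simpa using eq_one_of_not_moved hok (hhs _ hx) h) h1
    · exact absurd (by rw [h]; rfl) hxb
    · exact absurd hx (hnS _ h)
    · exact absurd (by rw [O.val_mul _ _ hok codeB_ok.1]; exact mul_mem hx hb) (hnS _ h)
    · exact ⟨c, h, rfl⟩
  have hfifteen : ∀ x ∈ D, orderOf x ≠ 15 := by
    intro x hx h15
    obtain ⟨c, hok, rfl, hf⟩ := code x hx
    simp only [factB, Bool.and_eq_true, Bool.or_eq_true, Bool.not_eq_true'] at hf
    rcases hf.2 with (h | h) | h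
    · rw [moved_eq_false hok (k := 15) (by rw [← h15]; exact pow_orderOf_eq_one _)] at h
      exact absurd h Bool.false_ne_true
    · have h3 := orderOf_dvd_of_pow_eq_one (eq_one_of_not_moved hok (hhs _ hx) h)
      rw [h15] at h3
      omega
    · have h3 := orderOf_dvd_of_pow_eq_one (eq_one_of_not_moved hok (hhs _ hx) h)
      rw [h15] at h3
      omega
  have hpair : ∀ x ∈ D, ∀ y ∈ D, (∃ c ∈ tList, O.val c = x) → (∃ c ∈ tList, O.val c = y) →
      x * y = y * x → y = x ∨ y = x * bP := by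
    rintro _ hx _ hy ⟨c, hc, rfl⟩ ⟨d, hd, rfl⟩ hcomm
    have h := t_ok
    simp only [Bool.and_eq_true, List.all_eq_true, Bool.or_eq_true, Bool.not_eq_true', List.contains_iff_mem,
      beq_iff_eq, decide_eq_true_eq] at h
    have hok := h.1
    rcases h.2 c hc d hd with (((h' | h') | h') | h') | h'
    · rw [commOn_eq_true (hok c hc) (hok d hd) hcomm] at h'
      exact absurd h' (by decide)
    · exact .inl (by rw [h'])
    · exact .inr (by rw [h', O.val_mul _ _ (hok c hc) codeB_ok.1]; rfl)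
    · exact absurd (by rw [O.val_mul _ _ (hok c hc) (hok d hd)]; exact mul_mem hx hy) (hnS _ h')
    · exact absurd (by
        rw [O.val_mul _ _ (O.ok_mul _ _ (hok c hc) (hok d hd)) codeB_ok.1, O.val_mul _ _ (hok c hc) (hok d hd)]
        exact mul_mem (mul_mem hx hy) hb) (hnS _ h')
  haveI : Fact (Nat.Prime 2) := ⟨Nat.prime_two⟩
  haveI : Fact (Nat.Prime 3) := ⟨Nat.prime_three⟩
  haveI : Fact (Nat.Prime 5) := ⟨by norm_num⟩
  have hdvd : Nat.card ↥D ∣ 2880 := card_CB ▸ card_dvd_of_le hD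
  -- the part of two-power order is elementary, of order at most four
  obtain ⟨Q⟩ := (inferInstance : Nonempty (Sylow 2 ↥D))
  have hQ : Nat.card (Q : Subgroup ↥D) ≤ 4 := by
    classical
    have hexp : ∀ x : (Q : Subgroup ↥D), ((x : ↥D) : Equiv.Perm (Fin 100)) ^ 2 = 1 := by
      intro x
      obtain ⟨k, hk⟩ := Q.2 x
      have hk' : (((x : ↥D)) : Equiv.Perm (Fin 100)) ^ 2 ^ k = 1 := by
        simpa using congrArg (fun y : (Q : Subgroup ↥D) => (((y : ↥D)) : Equiv.Perm (Fin 100))) hk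
      clear hk
      induction k with
      | zero => rw [pow_zero, pow_one] at hk'; rw [hk', one_pow]
      | succ k ih =>
        rcases k with _ | k
        · exact hk'
        refine ih ?_
        have := hfour _ (pow_mem (x : ↥D).2 (2 ^ k)) (by
          rw [← pow_mul, ← hk', pow_succ, pow_succ]; ring_nf)
        rw [← pow_mul, ← pow_succ] at this
        exact this
    have hcomm : ∀ x y : (Q : Subgroup ↥D),
        ((x : ↥D) : Equiv.Perm (Fin 100)) * (y : ↥D) = (y : ↥D) * (x : ↥D) := by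
      intro x y
      have h1 := hexp x; have h2 := hexp y; have h3 := hexp (x * y)
      simp only [coe_mul, pow_two] at h1 h2 h3
      exact (Commute.eq (mul_left_cancel (a := ((x : ↥D) : Equiv.Perm (Fin 100)))
        (mul_right_cancel (b := ((y : ↥D) : Equiv.Perm (Fin 100))) (by
          calc _ = ((x : ↥D) : Equiv.Perm (Fin 100)) * ((x : ↥D) : Equiv.Perm (Fin 100)) *
              (((y : ↥D) : Equiv.Perm (Fin 100)) * (y : ↥D)) := by group
            _ = _ := by rw [h1, h2, one_mul, ← h3]; group))))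
    obtain h | ⟨x0, hx0⟩ : (∀ x : (Q : Subgroup ↥D), ((x : ↥D) : Equiv.Perm (Fin 100)) ∈ ({1, bP} : Finset _)) ∨
        ∃ x : (Q : Subgroup ↥D), ((x : ↥D) : Equiv.Perm (Fin 100)) ∉ ({1, bP} : Finset _) := by
      by_cases h : ∀ x : (Q : Subgroup ↥D), ((x : ↥D) : Equiv.Perm (Fin 100)) ∈ ({1, bP} : Finset _)
      · exact .inl h
      · exact .inr (not_forall.1 h)
    · have := Nat.card_le_card_of_injective (fun x => (⟨_, h x⟩ : ↥({1, bP} : Finset (Equiv.Perm (Fin 100)))))
        fun x y e => Subtype.ext (Subtype.ext (congrArg Subtype.val e :))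
      rw [Nat.card_eq_finsetCard] at this
      exact this.trans ((Finset.card_le_two).trans (by norm_num))
    · have hx0' := hx0
      simp only [Finset.mem_insert, Finset.mem_singleton, not_or] at hx0
      have hall : ∀ y : (Q : Subgroup ↥D), ((y : ↥D) : Equiv.Perm (Fin 100)) ∈
          ({1, bP, ((x0 : ↥D) : Equiv.Perm (Fin 100)), ((x0 : ↥D) : Equiv.Perm (Fin 100)) * bP} : Finset _) := by
        intro y
        by_cases h1 : ((y : ↥D) : Equiv.Perm (Fin 100)) = 1
        · simp [h1]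
        by_cases h2 : ((y : ↥D) : Equiv.Perm (Fin 100)) = bP
        · simp [h2]
        rcases hpair _ (x0 : ↥D).2 _ (y : ↥D).2 (htwo _ (x0 : ↥D).2 (by simpa [pow_two] using hexp x0) hx0.1 hx0.2)
          (htwo _ (y : ↥D).2 (by simpa [pow_two] using hexp y) h1 h2) (hcomm x0 y) with h | h <;> simp [h]
      have := Nat.card_le_card_of_injective (fun y => (⟨_, hall y⟩ :
          ↥({1, bP, ((x0 : ↥D) : Equiv.Perm (Fin 100)), ((x0 : ↥D) : Equiv.Perm (Fin 100)) * bP} : Finset _)))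
        fun x y e => Subtype.ext (Subtype.ext (congrArg Subtype.val e :))
      rw [Nat.card_eq_finsetCard] at this
      exact this.trans Finset.card_le_four
  by_contra hbig
  have hpos : 0 < Nat.card ↥D := Nat.card_pos
  have hcardQ := Q.card_eq_multiplicity
  have hndvd : ¬ 8 ∣ Nat.card ↥D := fun h8 => by
    have : 3 ≤ (Nat.card ↥D).factorization 2 :=
      (Nat.prime_two.pow_dvd_iff_le_factorization (by omega)).1 (by simpa using h8)
    have := Nat.pow_le_pow_right (show 0 < 2 by norm_num) this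
    rw [← hcardQ] at this
    omega
  have hcases : Nat.card ↥D = 90 ∨ Nat.card ↥D = 180 := by
    have hmem : Nat.card ↥D ∈ Nat.divisors 2880 := Nat.mem_divisors.2 ⟨hdvd, by norm_num⟩
    have heven : 2 ∣ Nat.card ↥D := by
      have h := orderOf_dvd_natCard D hb
      rwa [orderOf_eq_prime (by rw [pow_two]; exact bP_sq) bP_ne] at h
    have key : ∀ n ∈ Nat.divisors 2880, 75 ≤ n → 2 ∣ n → ¬ 8 ∣ n → n = 90 ∨ n = 180 := by decide +kernel
    exact key _ hmem (by omega) heven hndvd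
  -- the Sylow five subgroup
  obtain ⟨P⟩ := (inferInstance : Nonempty (Sylow 5 ↥D))
  have hP5 : Nat.card (P : Subgroup ↥D) = 5 := by
    rw [P.card_eq_multiplicity]
    rcases hcases with h | h <;> rw [h]
    · rw [show (90 : ℕ) = 5 * 18 by norm_num, Nat.factorization_mul (by norm_num) (by norm_num), Finsupp.add_apply,
        (show Nat.Prime 5 by norm_num).factorization_self, Nat.factorization_eq_zero_of_not_dvd (by norm_num)]
      norm_num
    · rw [show (180 : ℕ) = 5 * 36 by norm_num, Nat.factorization_mul (by norm_num) (by norm_num), Finsupp.add_apply,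
        (show Nat.Prime 5 by norm_num).factorization_self, Nat.factorization_eq_zero_of_not_dvd (by norm_num)]
      norm_num
  set N : Subgroup ↥D := normalizer ((P : Subgroup ↥D) : Set ↥D) with hN
  have hNi : Nat.card ↥N * Nat.card (Sylow 5 ↥D) = Nat.card ↥D := by
    rw [P.card_eq_index_normalizer]
    exact N.card_mul_index
  have hbN : (⟨bP, hb⟩ : ↥D) ∈ N := mem_normalizer_iff.2 fun y => by
    rw [show (⟨bP, hb⟩ : ↥D) * y * (⟨bP, hb⟩ : ↥D)⁻¹ = y from Subtype.ext (by
      show bP * (y : Equiv.Perm (Fin 100)) * bP⁻¹ = y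
      rw [← mem_centralizer_singleton_iff.1 (mem_inf.1 (hD y.2)).2, mul_inv_cancel_right])]
  have hN2 : 2 ∣ Nat.card ↥N := by
    have h := orderOf_dvd_natCard N hbN
    rwa [Subgroup.orderOf_mk, orderOf_eq_prime (by rw [pow_two]; exact bP_sq) bP_ne] at h
  have hn5 : Nat.card (Sylow 5 ↥D) % 5 = 1 := card_sylow_modEq_one 5 ↥D
  have h3 : 3 ∣ Nat.card ↥N := by
    have hd : Nat.card (Sylow 5 ↥D) ∈ Nat.divisors 180 := Nat.mem_divisors.2 ⟨by
      rcases hcases with h | h <;> rw [h] at hNi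
      · exact ⟨Nat.card ↥N * 2, by linarith⟩
      · exact ⟨Nat.card ↥N, by linarith⟩, by norm_num⟩
    have key : ∀ n ∈ Nat.divisors 180, n % 5 = 1 → n = 1 ∨ n = 6 ∨ n = 36 := by decide +kernel
    rcases key _ hd hn5 with h | h | h <;> rw [h] at hNi <;> rcases hcases with h' | h' <;> rw [h'] at hNi <;> omega
  obtain ⟨y, hy⟩ := exists_prime_orderOf_dvd_card' (G := ↥N) 3 h3
  obtain ⟨x, hx⟩ := exists_prime_orderOf_dvd_card' (G := (P : Subgroup ↥D)) 5 (by rw [hP5])
  have hgen : zpowers (x : ↥D) = (P : Subgroup ↥D) := eq_of_le_of_card_ge (zpowers_le.2 x.2)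
    (by rw [Nat.card_zpowers, orderOf_coe, hx, hP5])
  obtain ⟨k, hk⟩ := mem_zpowers_iff.1
    (hgen.ge ((mem_normalizer_iff.1 y.2 (x : ↥D)).1 x.2) : (y : ↥D) * x * (y : ↥D)⁻¹ ∈ zpowers (x : ↥D))
  have hpow : ∀ n : ℕ, (y : ↥D) ^ n * x * ((y : ↥D) ^ n)⁻¹ = (x : ↥D) ^ (k ^ n) := by
    intro n
    induction n with
    | zero => simp
    | succ n ih =>
      rw [pow_succ' (y : ↥D), show (y : ↥D) * (y : ↥D) ^ n * x * ((y : ↥D) * (y : ↥D) ^ n)⁻¹ =
        (y : ↥D) * ((y : ↥D) ^ n * x * ((y : ↥D) ^ n)⁻¹) * (y : ↥D)⁻¹ by group, ih,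
        ← conj_zpow, ← hk, ← zpow_mul, pow_succ']
  have hy3 : (y : ↥D) ^ 3 = 1 := by rw [← hy, ← coe_pow, pow_orderOf_eq_one, coe_one]
  have hx5 : orderOf (x : ↥D) = 5 := by rw [orderOf_coe, hx]
  have h13 := hpow 3
  rw [hy3, one_mul, inv_one, mul_one] at h13
  have hmod : (1 : ℤ) ≡ k ^ 3 [ZMOD 5] := by
    rw [← show ((orderOf (x : ↥D) : ℕ) : ℤ) = 5 by rw [hx5]; rfl, ← zpow_eq_zpow_iff_modEq, zpow_one]
    exact h13
  have hk1 : (1 : ℤ) ≡ k [ZMOD 5] := by
    have h := (ZMod.intCast_eq_intCast_iff _ _ 5).2 hmod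
    refine (ZMod.intCast_eq_intCast_iff _ _ 5).1 ?_
    push_cast at h ⊢
    exact cube_five _ h
  have hcom : Commute (y : ↥D) (x : ↥D) := by
    refine (mul_inv_eq_iff_eq_mul.1 ?_)
    rw [← hk]
    conv_rhs => rw [← zpow_one (x : ↥D)]
    rw [zpow_eq_zpow_iff_modEq, hx5]
    exact hk1.symm
  refine hfifteen _ ((y : ↥D) * (x : ↥D)).2 ?_
  rw [orderOf_coe, hcom.orderOf_mul_eq_mul_orderOf_of_coprime (by rw [orderOf_coe, hy, hx5]; norm_num),
    orderOf_coe, hy, hx5]

end CfsgLib.HSEndgame
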