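import Cfsg.Agent.Lib.Invol.Embedded

/-!
# A subgroup with two classes of involutions containing the centraliser of one of them

If in the centraliser of the other one the subgroup has at least as many involutions of the first class as a
subgroup avoiding them can have elements, the subgroup is everything.
-/

set_option autoImplicit false
set_option linter.unusedSectionVars false
set_option linter.style.haveILetI false

namespace CfsgLib.HSEndgame

open Subgroup

variable {G : Type*} [Group G] [Finite G] {t b : G} {X : Subgroup G}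

theorem orderOf_of_isConj {x : G} (ht : orderOf t = 2) (h : IsConj t x) : orderOf x = 2 := by
  obtain ⟨g, rfl⟩ := isConj_iff.1 h
  rw [← ht, ← MulAut.conj_apply, MulEquiv.orderOf_eq]

section

variable (ht : orderOf t = 2) (htX : centralizer ({t} : Set G) ≤ X) (hbX : b ∈ X) (htb : ¬ IsConj t b)
  (hcls : ∀ x ∈ X, orderOf x = 2 → (∃ g ∈ X, g * x * g⁻¹ = t) ∨ ∃ g ∈ X, g * x * g⁻¹ = b)

include ht htX htb hcls in
/-- An element conjugating `t` into the subgroup lies in it. -/
theorem mem_of_conj_t {g : G} (h : g * t * g⁻¹ ∈ X) : g ∈ X := by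
  rcases hcls _ h (orderOf_of_isConj ht (isConj_iff.2 ⟨g, rfl⟩)) with ⟨x, hx, e⟩ | ⟨x, -, e⟩
  · have hxg : x * g ∈ X := htX (mem_centralizer_singleton_iff.2 (mul_inv_eq_iff_eq_mul.1 (by
      rw [show x * g * t * (x * g)⁻¹ = x * (g * t * g⁻¹) * x⁻¹ by group]; exact e)))
    simpa using mul_mem (inv_mem hx) hxg
  · exact absurd (isConj_iff.2 ⟨x * g, by rw [← e]; group⟩) htb

include ht htX htb hcls in
/-- An element conjugating a conjugate of `t` from the subgroup back into it lies in it. -/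
theorem mem_of_conj {g u : G} (hu : u ∈ X) (hut : IsConj t u) (h : g * u * g⁻¹ ∈ X) : g ∈ X := by
  obtain ⟨k, rfl⟩ := isConj_iff.1 hut
  have hk := mem_of_conj_t ht htX htb hcls hu
  have hgk := mem_of_conj_t ht htX htb hcls (g := g * k)
    (by rwa [show g * k * t * (g * k)⁻¹ = g * (k * t * k⁻¹) * g⁻¹ by group])
  simpa using mul_mem hgk (inv_mem hk)

include ht htX hbX htb hcls in
/-- The centraliser of `b` lies in the subgroup. -/
theorem centralizer_le (hb : orderOf b = 2) {N : ℕ} {S : Set G} (hSN : N ≤ S.ncard)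
    (hS : ∀ x ∈ S, x ∈ X ∧ x * b = b * x ∧ IsConj t x)
    (hD : ∀ D : Subgroup G, D ≤ X ⊓ centralizer ({b} : Set G) → b ∈ D → (∀ x ∈ D, ¬ IsConj t x) →
      Nat.card ↥D < N) :
    centralizer ({b} : Set G) ≤ X := by
  classical
  by_contra hnle
  set Y := centralizer ({b} : Set G) with hY
  set U := X.subgroupOf Y with hU
  have hbY : b ∈ Y := mem_centralizer_singleton_iff.2 rfl
  -- conjugates of t commuting with b fix one coset
  have hexist : ∀ u : ↥Y, IsConj t (u : G) → ∃ c : ↥Y ⧸ U, u • c = c := fun u hu => by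
    obtain ⟨k, hk⟩ := isConj_iff.1 hu
    have hbk : k⁻¹ * b * k ∈ X := htX (mem_centralizer_singleton_iff.2 (by
      have huc := mem_centralizer_singleton_iff.1 u.2
      rw [← hk] at huc
      calc k⁻¹ * b * k * t = k⁻¹ * (b * (k * t * k⁻¹)) * k := by group
        _ = t * (k⁻¹ * b * k) := by rw [← huc]; group))
    have hob : orderOf (k⁻¹ * b * k) = 2 := by
      rw [← hb]; simpa using MulEquiv.orderOf_eq (MulAut.conj k⁻¹) b
    rcases hcls _ hbk hob with ⟨x, -, e⟩ | ⟨x, hx, e⟩
    · exact absurd (IsConj.symm (isConj_iff.2 ⟨x * k⁻¹, by rw [← e]; group⟩)) htb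
    · have hy : k * x⁻¹ ∈ Y := mem_centralizer_singleton_iff.2 (by
        calc k * x⁻¹ * b = k * x⁻¹ * (x * (k⁻¹ * b * k) * x⁻¹) := by rw [e]
          _ = b * (k * x⁻¹) := by group)
      refine ⟨QuotientGroup.mk ⟨k * x⁻¹, hy⟩, CfsgLib.Invol.smul_coset_eq_self.2 (mem_subgroupOf.2 ?_)⟩
      have ht' : t ∈ X := htX (mem_centralizer_singleton_iff.2 rfl)
      show (k * x⁻¹)⁻¹ * (u : G) * (k * x⁻¹) ∈ X
      rw [← hk, show (k * x⁻¹)⁻¹ * (k * t * k⁻¹) * (k * x⁻¹) = x * t * x⁻¹ by group]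
      exact mul_mem (mul_mem hx ht') (inv_mem hx)
  have huniq : ∀ u : ↥Y, IsConj t (u : G) → ∀ c d : ↥Y ⧸ U, u • c = c → u • d = d → c = d := by
    intro u hu c d hc hd
    induction c using QuotientGroup.induction_on with
    | H y =>
    induction d using QuotientGroup.induction_on with
    | H w =>
    rw [CfsgLib.Invol.smul_coset_eq_self, mem_subgroupOf] at hc hd
    refine QuotientGroup.eq.2 (mem_subgroupOf.2 ?_)
    refine mem_of_conj ht htX htb hcls hd (hu.trans (isConj_iff.2 ⟨(w : G)⁻¹, by simp⟩)) ?_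
    push_cast at hc ⊢
    rwa [show (y : G)⁻¹ * w * ((w : G)⁻¹ * u * w) * ((y : G)⁻¹ * w)⁻¹ = (y : G)⁻¹ * u * y by group]
  set T := {u : ↥Y // IsConj t (u : G)} with hT
  choose pt hpt using fun u : T => hexist u.1 u.2
  have hsq : ∀ u : T, (u.1 : ↥Y) * u.1 = 1 := fun u => Subtype.ext (by
    have h := orderOf_of_isConj ht u.2
    rw [coe_mul, coe_one, ← pow_two, ← h, pow_orderOf_eq_one])
  -- each coset is fixed by at least N of them
  haveI : Fintype T := Fintype.ofFinite _
  haveI : Fintype (↥Y ⧸ U) := Fintype.ofFinite _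
  set c0 : ↥Y ⧸ U := QuotientGroup.mk 1 with hc0
  have hfix : ∀ c, N ≤ (Finset.univ.filter fun u : T => pt u = c).card := by
    intro c
    induction c using QuotientGroup.induction_on with
    | H y =>
    refine hSN.trans ?_
    rw [← Nat.card_coe_set_eq, ← Nat.card_eq_finsetCard]
    refine Nat.card_le_card_of_injective (fun x : S =>
      (⟨⟨y * ⟨(x : G), mem_centralizer_singleton_iff.2 (hS x x.2).2.1⟩ * y⁻¹,
        (hS x x.2).2.2.trans (isConj_iff.2 ⟨(y : G), rfl⟩)⟩, Finset.mem_filter.2 ⟨Finset.mem_univ _, ?_⟩⟩ :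
          ↥(Finset.univ.filter fun u : T => pt u = QuotientGroup.mk y))) ?_
    · refine huniq _ ((hS x x.2).2.2.trans (isConj_iff.2 ⟨(y : G), rfl⟩)) _ _ (hpt _)
        (CfsgLib.Invol.smul_coset_eq_self.2 (mem_subgroupOf.2 ?_))
      show (y : G)⁻¹ * (y * x * (y : G)⁻¹) * y ∈ X
      rw [show (y : G)⁻¹ * (y * (x : G) * (y : G)⁻¹) * y = x by group]
      exact (hS x x.2).1
    · intro x x' e
      have e' : (y : G) * x * (y : G)⁻¹ = y * x' * (y : G)⁻¹ := congrArg (fun u => (((u.1 : T).1 : ↥Y) : G)) e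
      exact Subtype.ext (by simpa using e')
  obtain ⟨c1, hc1⟩ : ∃ c : ↥Y ⧸ U, c ≠ c0 := by
    obtain ⟨g, hg, hgX⟩ := SetLike.not_le_iff_exists.1 hnle
    refine ⟨QuotientGroup.mk ⟨g, hg⟩, fun e => hgX ?_⟩
    have := mem_subgroupOf.1 (QuotientGroup.eq.1 e)
    simpa using this
  -- some other coset is the image of the first one under at least N of them
  have hmov : ∃ q : ↥Y ⧸ U, q ≠ c0 ∧ N ≤ (Finset.univ.filter fun u : T => u.1 • c0 = q).card := by
    by_contra h
    simp only [not_exists, not_and, not_le] at h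
    have h1 : ∑ c, (Finset.univ.filter fun u : T => pt u = c).card = Fintype.card T :=
      (Finset.card_eq_sum_card_fiberwise fun u _ => Finset.mem_univ _).symm
    have h2 : ∑ c, (Finset.univ.filter fun u : T => u.1 • c0 = c).card = Fintype.card T :=
      (Finset.card_eq_sum_card_fiberwise fun u _ => Finset.mem_univ _).symm
    have h3 : (Finset.univ.filter fun u : T => u.1 • c0 = c0) = Finset.univ.filter fun u : T => pt u = c0 := by
      refine Finset.filter_congr fun u _ => ⟨fun hu => huniq _ u.2 _ _ (hpt u) hu, fun hu => ?_⟩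
      rw [← hu]; exact hpt u
    have h4 : ∑ c, (Finset.univ.filter fun u : T => u.1 • c0 = c).card <
        ∑ c, (Finset.univ.filter fun u : T => pt u = c).card := by
      refine Finset.sum_lt_sum (fun c _ => ?_) ⟨c1, Finset.mem_univ _, (h c1 hc1).trans_le (hfix c1)⟩
      rcases eq_or_ne c c0 with rfl | hc
      · rw [h3]
      · exact (h c hc).le.trans (hfix c)
    omega
  obtain ⟨q, hq, hN⟩ := hmov
  obtain ⟨u0, hu0⟩ := Finset.card_pos.1 (lt_of_lt_of_le (Nat.pos_of_ne_zero fun h0 => by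
    have := hD (zpowers b) ?_ (mem_zpowers b) ?_
    · omega
    · exact zpowers_le.2 ⟨hbX, hbY⟩
    · rintro x hx hxt
      obtain ⟨k, rfl⟩ := mem_zpowers_iff.1 hx
      rcases Int.even_or_odd k with ⟨j, hj⟩ | ⟨j, hj⟩
      · have h2 := orderOf_of_isConj ht hxt
        rw [hj, ← two_mul, zpow_mul, zpow_two, ← pow_two, ← hb, pow_orderOf_eq_one, one_zpow, orderOf_one] at h2
        omega
      · rw [hj, zpow_add, zpow_mul, zpow_two, ← pow_two, ← hb, pow_orderOf_eq_one, one_zpow, one_mul,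
          zpow_one] at hxt
        exact htb hxt) hN)
  simp only [Finset.mem_filter, Finset.mem_univ, true_and] at hu0
  set W : Subgroup ↥Y := MulAction.stabilizer ↥Y c0 ⊓ MulAction.stabilizer ↥Y q with hW
  have hWX : W.map Y.subtype ≤ X ⊓ Y := by
    rintro _ ⟨w, hw, rfl⟩
    have h := MulAction.mem_stabilizer_iff.1 (mem_inf.1 hw).1
    rw [hc0, CfsgLib.Invol.smul_coset_eq_self, inv_one, one_mul, mul_one] at h
    exact ⟨h, w.2⟩
  have hbW : b ∈ W.map Y.subtype := by
    have hfixb : ∀ c : ↥Y ⧸ U, (⟨b, hbY⟩ : ↥Y) • c = c := fun c => by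
      induction c using QuotientGroup.induction_on with
      | H y =>
      refine CfsgLib.Invol.smul_coset_eq_self.2 (mem_subgroupOf.2 ?_)
      show (y : G)⁻¹ * b * y ∈ X
      rw [mul_assoc, ← mem_centralizer_singleton_iff.1 y.2, inv_mul_cancel_left]
      exact hbX
    exact ⟨⟨b, hbY⟩, mem_inf.2 ⟨hfixb c0, hfixb q⟩, rfl⟩
  have hlt := hD _ hWX hbW (by
    rintro _ ⟨w, hw, rfl⟩ hwt
    exact hq (huniq w hwt q c0 (mem_inf.1 hw).2 (mem_inf.1 hw).1))
  rw [card_map_of_injective Y.subtype_injective] at hlt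
  have hback : ∀ u : T, u.1 • c0 = q → u.1 • q = c0 := fun u hu => by
    rw [← hu, ← mul_smul, hsq, one_smul]
  have hle : (Finset.univ.filter fun u : T => u.1 • c0 = q).card ≤ Nat.card ↥W := by
    rw [← Nat.card_eq_finsetCard]
    refine Nat.card_le_card_of_injective (fun u => (⟨u0.1 * u.1.1, mem_inf.2 ⟨?_, ?_⟩⟩ : ↥W)) fun u u' e => ?_
    · have hu := (Finset.mem_filter.1 u.2).2
      rw [MulAction.mem_stabilizer_iff, mul_smul, hu, hback u0 hu0]
    · have hu := (Finset.mem_filter.1 u.2).2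
      rw [MulAction.mem_stabilizer_iff, mul_smul, hback u.1 hu, hu0]
    · exact Subtype.ext (Subtype.ext (mul_left_cancel (congrArg Subtype.val e)))
  omega

include ht htX hbX htb hcls in
/-- The subgroup is everything. -/
theorem eq_top (hb : orderOf b = 2) (hbC : centralizer ({b} : Set G) ≤ X) : X = ⊤ := by
  by_contra hX
  have htX' : t ∈ X := htX (mem_centralizer_singleton_iff.2 rfl)
  have hse : Cfsg.IsStronglyEmbedded X := by
    refine ⟨hX, even_iff_two_dvd.2 (ht ▸ orderOf_dvd_natCard X htX'), fun g hg => ?_⟩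
    by_contra hodd
    rw [Nat.not_odd_iff_even] at hodd
    obtain ⟨⟨x, hx⟩, hx2⟩ := exists_prime_orderOf_dvd_card' 2 (even_iff_two_dvd.1 hodd)
    rw [Subgroup.orderOf_mk] at hx2
    obtain ⟨hxX, w, hw, e⟩ := mem_inf.1 hx
    have e' : g * w * g⁻¹ = x := e
    have hw2 : orderOf w = 2 := by rw [← hx2, ← e', ← MulAut.conj_apply, MulEquiv.orderOf_eq]
    rcases hcls w hw hw2 with ⟨c, hc, ec⟩ | ⟨c, hc, ec⟩
    · exact hg (mem_of_conj ht htX htb hcls hw (IsConj.symm (isConj_iff.2 ⟨c, ec⟩)) (e' ▸ hxX))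
    · rcases hcls x hxX hx2 with ⟨d, -, ed⟩ | ⟨d, hd, ed⟩
      · exact htb ((isConj_iff.2 ⟨c * g⁻¹ * d⁻¹, by rw [← ed, ← ec, ← e']; group⟩))
      · have h1 : d * g * c⁻¹ ∈ X := hbC (mem_centralizer_singleton_iff.2 (mul_inv_eq_iff_eq_mul.1 (by
          calc d * g * c⁻¹ * b * (d * g * c⁻¹)⁻¹ = d * g * c⁻¹ * (c * w * c⁻¹) * (d * g * c⁻¹)⁻¹ := by rw [ec]
            _ = d * (g * w * g⁻¹) * d⁻¹ := by group
            _ = b := by rw [e', ed])))
        have h2 := mul_mem (mul_mem (inv_mem hd) h1) hc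
        rw [show d⁻¹ * (d * g * c⁻¹) * c = g by group] at h2
        exact hg h2
  exact htb (CfsgLib.Invol.stronglyEmbedded_one_class hse ht hb)

end

end CfsgLib.HSEndgame
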