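import Cfsg.Agent.Lib.HSEndgame.Checks

/-!
# Kernel check over the elements of the centraliser
-/

set_option autoImplicit false
set_option maxRecDepth 100000
set_option maxHeartbeats 2000000
set_option Elab.async false

namespace CfsgLib.HSEndgame

open CfsgLib.Golay

theorem uelems_ok : (elems O uLevels).all factB = true := by decide +kernel

end CfsgLib.HSEndgame
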