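import Cfsg.Agent.Lib.HSEndgame.Model
import Cfsg.Agent.Lib.HSEndgame.Abstract
import Cfsg.Agent.Lib.Leech.HSSpor

/-!
# A copy of HS containing the centraliser of one of its involutions is everything
-/

set_option autoImplicit false

namespace CfsgLib.HSEndgame

open CfsgLib.Golay Subgroup

/-- The first involution. -/
noncomputable def aH : ↥HS.hsGroup := ⟨aP, codeA_ok.2⟩

/-- The second involution. -/
noncomputable def bH : ↥HS.hsGroup := ⟨bP, codeB_ok.2⟩

/-- A copy of HS containing a centraliser of order 7680 of an involution is the whole group. -/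
theorem eq_top_of_centralizer_le {G : Type*} [Group G] [Finite G] {t : G} (ht : orderOf t = 2)
    (hcard : Nat.card ↥(centralizer ({t} : Set G)) = 7680) {X : Subgroup G} (e : ↥HS.hsGroup ≃* ↥X)
    (htX : centralizer ({t} : Set G) ≤ X) : X = ⊤ := by
  classical
  set φ : ↥HS.hsGroup →* G := X.subtype.comp e.toMonoidHom with hφ
  have hinj : Function.Injective φ := X.subtype_injective.comp e.injective
  have hord : ∀ x, orderOf (φ x) = orderOf x := orderOf_injective φ hinj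
  have hmemX : ∀ x, φ x ∈ X := fun x => (e x).2
  have hpre : ∀ {y : G}, y ∈ X → ∃ x, φ x = y := fun {y} hy => ⟨e.symm ⟨y, hy⟩, by simp [hφ]⟩
  have hbord : orderOf bH = 2 :=
    orderOf_eq_prime (by rw [pow_two]; exact Subtype.ext bP_sq) fun h => bP_ne (congrArg Subtype.val h)
  -- the second involution is not conjugate to `t`
  have htb : ¬ IsConj t (φ bH) := fun h => by
    obtain ⟨k, hk⟩ := isConj_iff.1 h
    let f : ↥CB → ↥(centralizer ({t} : Set G)) := fun c =>
      ⟨k⁻¹ * φ ⟨c, (mem_inf.1 c.2).1⟩ * k, mem_centralizer_singleton_iff.2 (by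
        have h1 : φ ⟨c, (mem_inf.1 c.2).1⟩ * φ bH = φ bH * φ ⟨c, (mem_inf.1 c.2).1⟩ := by
          rw [← map_mul, ← map_mul]
          exact congrArg φ (Subtype.ext (mem_centralizer_singleton_iff.1 (mem_inf.1 c.2).2))
        calc k⁻¹ * φ ⟨c, (mem_inf.1 c.2).1⟩ * k * t
            = k⁻¹ * (φ ⟨c, (mem_inf.1 c.2).1⟩ * (k * t * k⁻¹)) * k := by group
          _ = k⁻¹ * (φ bH * φ ⟨c, (mem_inf.1 c.2).1⟩) * k := by rw [hk, h1]
          _ = t * (k⁻¹ * φ ⟨c, (mem_inf.1 c.2).1⟩ * k) := by rw [← hk]; group)⟩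
    let f' : ↥CB →* ↥(centralizer ({t} : Set G)) :=
      { toFun := f
        map_one' := Subtype.ext (by
          show k⁻¹ * φ 1 * k = 1
          rw [map_one]; group)
        map_mul' := fun c d => Subtype.ext (by
          show k⁻¹ * φ ⟨(c : Equiv.Perm (Fin 100)) * d, _⟩ * k =
            k⁻¹ * φ ⟨c, (mem_inf.1 c.2).1⟩ * k * (k⁻¹ * φ ⟨d, (mem_inf.1 d.2).1⟩ * k)
          rw [show (⟨(c : Equiv.Perm (Fin 100)) * d, (mem_inf.1 (c * d).2).1⟩ : ↥HS.hsGroup) =
            ⟨c, (mem_inf.1 c.2).1⟩ * ⟨d, (mem_inf.1 d.2).1⟩ from rfl, map_mul]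
          group) }
    have hf : Function.Injective f' := fun c d he => by
      have e' : k⁻¹ * φ ⟨c, (mem_inf.1 c.2).1⟩ * k = k⁻¹ * φ ⟨d, (mem_inf.1 d.2).1⟩ * k :=
        congrArg Subtype.val he
      simp only [mul_left_inj, mul_right_inj] at e'
      exact Subtype.ext (congrArg Subtype.val (hinj e') :)
    have := card_dvd_of_injective f' hf
    rw [card_CB, hcard] at this
    omega
  obtain ⟨x0, hx0⟩ := hpre (htX (mem_centralizer_singleton_iff.2 rfl : t ∈ centralizer ({t} : Set G)))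
  -- `t` is in the first class
  obtain ⟨g0, hg0⟩ : ∃ g, g * x0 * g⁻¹ = aH := by
    obtain ⟨g, h | h⟩ := invol_cases (x := x0) (by rw [← hord, hx0, ht])
    · exact ⟨g, h⟩
    · exact absurd (isConj_iff.2 ⟨φ g, by rw [← hx0, ← map_inv, ← map_mul, ← map_mul, h]; rfl⟩) htb
  have hta : IsConj t (φ aH) := isConj_iff.2 ⟨φ g0, by rw [← hx0, ← map_inv, ← map_mul, ← map_mul, hg0]⟩
  have hcls : ∀ y ∈ X, orderOf y = 2 → (∃ g ∈ X, g * y * g⁻¹ = t) ∨ ∃ g ∈ X, g * y * g⁻¹ = φ bH := by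
    intro y hy hy2
    obtain ⟨x, rfl⟩ := hpre hy
    obtain ⟨g, h | h⟩ := invol_cases (x := x) (by rw [← hord, hy2])
    · refine .inl ⟨φ (g0⁻¹ * g), hmemX _, ?_⟩
      rw [← map_inv, ← map_mul, ← map_mul, ← hx0,
        show g0⁻¹ * g * x * (g0⁻¹ * g)⁻¹ = g0⁻¹ * (g * x * g⁻¹) * g0 by group, h,
        show (⟨aP, codeA_ok.2⟩ : ↥HS.hsGroup) = aH from rfl, ← hg0]
      congr 1
      group
    · exact .inr ⟨φ g, hmemX _, by rw [← map_inv, ← map_mul, ← map_mul, h]; rfl⟩
  have hbC : centralizer ({φ bH} : Set G) ≤ X := by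
    refine centralizer_le ht htX (hmemX _) htb hcls (by rw [hord, hbord]) (N := 75)
      (S := φ '' {x | (x : Equiv.Perm (Fin 100)) ∈ SA}) ?_ ?_ ?_
    · rw [Set.ncard_image_of_injective _ hinj, ← Set.ncard_image_of_injective _ Subtype.val_injective]
      refine card_SA.trans_eq (congrArg Set.ncard ?_)
      ext p
      refine ⟨fun hp => ⟨⟨p, ?_⟩, hp, rfl⟩, fun ⟨x, hx, e⟩ => e ▸ hx⟩
      obtain ⟨c, hc, rfl⟩ := hp
      exact (mem_inf.1 (s_spec hc).2.1).1
    · rintro _ ⟨x, ⟨c, hc, hcx⟩, rfl⟩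
      obtain ⟨-, hcC, g, hg, hgc⟩ := s_spec hc
      refine ⟨hmemX _, ?_, hta.trans (IsConj.symm (isConj_iff.2 ⟨φ ⟨g, hg⟩, ?_⟩))⟩
      · rw [← map_mul, ← map_mul]
        exact congrArg φ (Subtype.ext (by
          show (x : Equiv.Perm (Fin 100)) * bP = bP * x
          rw [← hcx]; exact mem_centralizer_singleton_iff.1 (mem_inf.1 hcC).2))
      · rw [← map_inv, ← map_mul, ← map_mul]
        exact congrArg φ (Subtype.ext (by
          show g * (x : Equiv.Perm (Fin 100)) * g⁻¹ = aP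
          rw [← hcx]; exact hgc))
    · intro D hD hbD hav
      set D' : Subgroup (Equiv.Perm (Fin 100)) := (D.comap φ).map HS.hsGroup.subtype with hD'
      have hc : Nat.card ↥D' = Nat.card ↥D := by
        rw [hD', card_map_of_injective HS.hsGroup.subtype_injective]
        refine Nat.card_eq_of_bijective (fun x => (⟨φ x.1, x.2⟩ : ↥D))
          ⟨fun x y h => Subtype.ext (hinj (congrArg (fun z : ↥D => (z : G)) h)), fun y => ?_⟩
        obtain ⟨x, hx⟩ := hpre (mem_inf.1 (hD y.2)).1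
        exact ⟨⟨x, by rw [mem_comap, hx]; exact y.2⟩, Subtype.ext hx⟩
      rw [← hc]
      refine small ?_ ⟨bH, hbD, rfl⟩ ?_
      · rintro _ ⟨x, hx, rfl⟩
        refine mem_inf.2 ⟨x.2, mem_centralizer_singleton_iff.2 ?_⟩
        have h := mem_centralizer_singleton_iff.1 (mem_inf.1 (hD hx)).2
        rw [← map_mul, ← map_mul] at h
        exact congrArg Subtype.val (hinj h)
      · rintro _ ⟨x, hx, rfl⟩ g hg he
        refine hav _ hx (hta.trans (IsConj.symm (isConj_iff.2 ⟨φ ⟨g, hg⟩, ?_⟩)))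
        rw [← map_inv, ← map_mul, ← map_mul]
        exact congrArg φ (Subtype.ext he)
  exact eq_top ht htX (hmemX _) htb hcls (by rw [hord, hbord]) hbC

/-- An embedding of HS whose image contains the centraliser is an isomorphism. -/
theorem isoHS_of_hom {G : Type*} [Group G] [Finite G] {t : G} (ht : orderOf t = 2)
    (hcard : Nat.card ↥(centralizer ({t} : Set G)) = 7680) (φ : ↥HS.hsGroup →* G) (hφ : Function.Injective φ)
    (htX : centralizer ({t} : Set G) ≤ φ.range) : Nonempty (G ≃* Cfsg.Spor.HS) := by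
  have h := eq_top_of_centralizer_le ht hcard (MonoidHom.ofInjective hφ) htX
  obtain ⟨f⟩ := CfsgLib.Leech.HSVec.sporHS_equiv
  exact ⟨(MulEquiv.ofBijective φ ⟨hφ, MonoidHom.range_eq_top.1 h⟩).symm.trans f.symm⟩

end CfsgLib.HSEndgame
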